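import Cfsg.Agent.Lib.SThreeFree.Hyps
import Cfsg.Agent.Lib.PGroups.Suzuki.Unitary
import Cfsg.Agent.Lib.Recog.Walter.Field.Assembly
import Cfsg.Agent.Lib.Classical.SmallIsoSix
import Cfsg.Agent.Lib.Classical.SmallIso
import Cfsg.Agent.S0222
import Mathlib.FieldTheory.Finite.GaloisField

/-!
Owner: helper6. The simple groups in which no 2-element is conjugate to another generator of the group it
generates (S4030), given Goldschmidt's theorem and the list of simple groups with abelian Sylow 2-subgroups.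
-/

set_option autoImplicit false
set_option linter.style.haveILetI false

namespace CfsgLib.TwoIrrational

open Subgroup

universe u

variable {G : Type u} [Group G] [Finite G]

/-- No 2-element is conjugate to another generator of the group it generates. -/
def Irr (G : Type u) [Group G] : Prop :=
  ∀ x : G, (∀ r : ℕ, r.Prime → r ∣ orderOf x → r = 2) →
    Subgroup.normalizer ((Subgroup.zpowers x : Subgroup G) : Set G) ≤ Subgroup.centralizer {x}

/-- An inverted 2-element is an involution. -/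
theorem sq_of_inverted (h : Irr G) {S : Subgroup G} (hS : IsPGroup 2 S) {x g : G} (hx : x ∈ S)
    (hg : g * x * g⁻¹ = x⁻¹) : x * x = 1 := by
  haveI : Fact (Nat.Prime 2) := ⟨Nat.prime_two⟩
  obtain ⟨k, hk⟩ := IsPGroup.iff_orderOf.1 hS ⟨x, hx⟩
  replace hk : orderOf x = 2 ^ k := by rw [← hk, ← orderOf_coe]
  have hN : g ∈ normalizer ((zpowers x : Subgroup G) : Set G) :=
    mem_normalizer_iff_map_conj_eq.2 (by
      rw [MonoidHom.map_zpowers]
      show zpowers (g * x * g⁻¹) = zpowers x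
      rw [hg, zpowers_inv])
  have h1 := h x (fun r hr hd =>
    (Nat.prime_dvd_prime_iff_eq hr Nat.prime_two).1 (hr.dvd_of_dvd_pow (hk ▸ hd))) hN
  rw [mem_centralizer_singleton_iff.1 h1, mul_inv_cancel_right] at hg
  exact mul_eq_one_iff_eq_inv.2 hg

/-- The involutions of a Sylow 2-subgroup commute. -/
theorem commute_of_sq (h : Irr G) {S : Subgroup G} (hS : IsPGroup 2 S) {a b : G} (ha : a ∈ S) (hb : b ∈ S)
    (ha2 : a * a = 1) (hb2 : b * b = 1) : a * b = b * a := by
  have hai : a⁻¹ = a := inv_eq_of_mul_eq_one_right ha2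
  have hbi : b⁻¹ = b := inv_eq_of_mul_eq_one_right hb2
  have h2 := sq_of_inverted h hS (g := a) (mul_mem ha hb) (by
    rw [mul_inv_rev, hai, hbi, ← mul_assoc, ha2, one_mul])
  calc a * b = (a * b)⁻¹ := eq_inv_of_mul_eq_one_left h2
    _ = b * a := by rw [mul_inv_rev, hai, hbi]

/-- The involutions of a Sylow 2-subgroup form a strongly closed elementary abelian subgroup. -/
theorem exists_closed (h : Irr G) (S : Sylow 2 G) (hne : (S : Subgroup G) ≠ ⊥) :
    ∃ A : Subgroup G, A ≠ ⊥ ∧ IsMulCommutative A ∧ Cfsg.IsStronglyClosed A (S : Subgroup G) := by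
  haveI : Fact (Nat.Prime 2) := ⟨Nat.prime_two⟩
  let A : Subgroup G :=
    { carrier := {g | g ∈ (S : Subgroup G) ∧ g * g = 1}
      one_mem' := ⟨one_mem _, one_mul 1⟩
      mul_mem' := fun {a b} ha hb => ⟨mul_mem ha.1 hb.1, by
        have hc := commute_of_sq h S.isPGroup' ha.1 hb.1 ha.2 hb.2
        rw [show a * b * (a * b) = a * (b * a) * b by group, ← hc,
          show a * (a * b) * b = a * a * (b * b) by group, ha.2, hb.2, one_mul]⟩
      inv_mem' := fun {a} ha => ⟨inv_mem ha.1, by rw [← mul_inv_rev, ha.2, inv_one]⟩ }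
  refine ⟨A, fun hA => ?_, ⟨⟨fun a b => Subtype.ext
    (commute_of_sq h S.isPGroup' a.2.1 b.2.1 a.2.2 b.2.2)⟩⟩, fun g hg => hg.1, fun x hx g hgx => ⟨hgx, ?_⟩⟩
  · haveI : Nontrivial (S : Subgroup G) := (nontrivial_iff_ne_bot _).2 hne
    obtain ⟨k, hk0, hk⟩ := IsPGroup.nontrivial_iff_card S.isPGroup' |>.1 inferInstance
    obtain ⟨⟨t, ht⟩, hto⟩ := exists_prime_orderOf_dvd_card' (G := (S : Subgroup G)) 2
      (hk ▸ dvd_pow_self 2 (by omega))
    rw [orderOf_mk] at hto
    have hmem : t ∈ A := ⟨ht, by rw [← pow_two, ← hto, pow_orderOf_eq_one]⟩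
    rw [hA, mem_bot] at hmem
    rw [hmem, orderOf_one] at hto
    norm_num at hto
  · rw [show g * x * g⁻¹ * (g * x * g⁻¹) = g * (x * x) * g⁻¹ by group, hx.2, mul_one, mul_inv_cancel]

/-- The unitary groups of even degree have an inverted element of order four. -/
theorem not_irr_psu {F : Type} [Field F] [Fintype F] {q : ℕ} (hF : Fintype.card F = q ^ 2) (hq : Even q) :
    ¬ Irr (Cfsg.PSU 3 F q) := by
  intro h
  haveI : Fact (Nat.Prime 2) := ⟨Nat.prime_two⟩
  obtain ⟨p, hp⟩ := CharP.exists F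
  obtain ⟨k, hpp, hk⟩ := FiniteField.card F p
  have hq2 : 2 ∣ q ^ 2 := (even_iff_two_dvd.1 hq).trans (dvd_pow_self q two_ne_zero)
  obtain rfl : 2 = p := (Nat.prime_dvd_prime_iff_eq Nat.prime_two hpp).1
    (Nat.prime_two.dvd_of_dvd_pow (hk ▸ hF ▸ hq2))
  obtain ⟨n, -, rfl⟩ := (Nat.dvd_prime_pow Nat.prime_two).1
    (show q ∣ 2 ^ (k : ℕ) by rw [← hk, hF]; exact dvd_pow_self q two_ne_zero)
  have hn : 1 ≤ n := by
    rcases n with _ | n
    · simp at hq
    · omega
  obtain ⟨P⟩ := (inferInstance : Nonempty (Sylow 2 (Cfsg.PSU 3 F (2 ^ n))))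
  obtain ⟨X⟩ := PGroups.Suzuki.Unitary.exists_param hn hF P
  have hσ : CfsgLib.Classical.Herm.IsInvol (CfsgLib.Classical.Herm.powHom hF) := CfsgLib.Classical.Herm.powHom_isInvol hF
  obtain ⟨x, hx⟩ := PGroups.Suzuki.Unitary.exists_pt hσ (1 : F)
  obtain ⟨t, ht⟩ := hσ.exists_trace_eq (μ := (1 : F)) (map_one _)
  obtain ⟨y, hy⟩ := PGroups.Suzuki.Unitary.exists_pt hσ t
  obtain ⟨z, hz, he⟩ := X.sq hσ x
  rw [hx, map_one, one_mul] at hz
  have hrel : X.el z * (X.el y * X.el x) = X.el x * X.el y := by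
    rw [X.mul' hσ, X.mul' hσ, X.mul' hσ, X.el.apply_eq_iff_eq, Subtype.ext_iff]
    simp only [PGroups.Suzuki.Unitary.Param.prod, hz, hx, hy, map_one, map_zero, zero_add, Prod.mk.injEq]
    refine ⟨add_comm _ _, ?_⟩
    linear_combination -ht + PGroups.Suzuki.Unitary.add_self' (CfsgLib.Classical.Herm.powHom hF t)
  have hconj : X.el y * X.el x * (X.el y)⁻¹ = (X.el x)⁻¹ := by
    rw [← he, mul_assoc] at hrel
    have h1 : X.el x * (X.el y * X.el x) = X.el y := mul_left_cancel hrel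
    rw [mul_inv_eq_iff_eq_mul]
    exact eq_inv_mul_of_mul_eq h1
  have h2 := sq_of_inverted h P.isPGroup' (g := (X.el y : Cfsg.PSU 3 F (2 ^ n))) (X.el x).2 (by
    exact congrArg Subtype.val hconj)
  have h3 : X.el z = 1 := by rw [← he]; exact Subtype.ext h2
  rw [X.eq_one_iff, hz, Prod.mk.injEq] at h3
  exact one_ne_zero h3.2

theorem irr_congr {H : Type*} [Group H] (e : G ≃* H) (h : Irr G) : Irr H := by
  intro x hx g hg
  have hsub := h (e.symm x) (fun r hr hd => hx r hr (by rwa [MulEquiv.orderOf_eq] at hd))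
  have hmem : e.symm g ∈ normalizer ((zpowers (e.symm x) : Subgroup G) : Set G) := by
    refine mem_normalizer_iff_map_conj_eq.2 ?_
    have h2 := mem_normalizer_iff_map_conj_eq.1 hg
    rw [MonoidHom.map_zpowers] at h2 ⊢
    have h3 := congrArg (Subgroup.map e.symm.toMonoidHom) h2
    rw [MonoidHom.map_zpowers, MonoidHom.map_zpowers] at h3
    simpa using h3
  have h1 := mem_centralizer_singleton_iff.1 (hsub hmem)
  rw [mem_centralizer_singleton_iff]
  simpa using congrArg e h1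

/-- `PSL(2, 2 ^ n)` in the form of the statement. -/
theorem psl_case {F : Type} [Field F] [Fintype F] {n : ℕ} (hn : 2 ≤ n) (hF : Fintype.card F = 2 ^ n)
    (e : G ≃* Matrix.ProjectiveSpecialLinearGroup (Fin 2) F) :
    ∃ (F : Type) (_ : Field F) (_ : Fintype F), 4 ≤ Fintype.card F ∧
      (Fintype.card F % 8 = 0 ∨ Fintype.card F % 8 = 3 ∨ Fintype.card F % 8 = 5) ∧
      Nonempty (G ≃* Matrix.ProjectiveSpecialLinearGroup (Fin 2) F) := by
  by_cases h3 : 3 ≤ n
  · refine ⟨F, inferInstance, inferInstance, ?_, Or.inl ?_, ⟨e⟩⟩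
    · rw [hF]; exact le_trans (by norm_num) (Nat.pow_le_pow_right (by norm_num) hn)
    · rw [hF, show n = 3 + (n - 3) by omega, pow_add, Nat.mul_mod]; norm_num
  · obtain rfl : n = 2 := by omega
    haveI : Fact (Nat.Prime 5) := ⟨by norm_num⟩
    have h5 : Fintype.card (ZMod 5) = 5 := ZMod.card 5
    obtain ⟨e5⟩ := Classical.nonempty_psl_five_equiv_alt h5
    have hc := CfsgLib.Classical.Two.card_PSL_two (F := F)
    rw [hF] at hc
    norm_num at hc
    obtain ⟨e4⟩ := CfsgLib.Classical.Two.psl_two_equiv_alternating (F := F) (k := 5) (by norm_num) (by rw [hF]; norm_num)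
      (by rw [hc]; rfl)
    exact ⟨ZMod 5, inferInstance, inferInstance, by rw [h5]; norm_num, by rw [h5]; norm_num,
      ⟨(e.trans e4).trans e5.symm⟩⟩

/-- S4030, given Goldschmidt's theorem and the abelian list. -/
theorem classification (hG : SThreeFree.GoldschmidtInput.{u}) (hW : Walter.WalterList.{u})
    [IsSimpleGroup G] (hna : ¬ IsMulCommutative G) (h : Irr G) :
    (∃ (F : Type) (_ : Field F) (_ : Fintype F), 4 ≤ Fintype.card F ∧
        (Fintype.card F % 8 = 0 ∨ Fintype.card F % 8 = 3 ∨ Fintype.card F % 8 = 5) ∧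
        Nonempty (G ≃* Matrix.ProjectiveSpecialLinearGroup (Fin 2) F)) ∨
    Cfsg.IsSuzuki G ∨ Cfsg.IsRee G ∨ Cfsg.IsJ1 G := by
  haveI : Fact (Nat.Prime 2) := ⟨Nat.prime_two⟩
  obtain ⟨S⟩ := (inferInstance : Nonempty (Sylow 2 G))
  have hne : (S : Subgroup G) ≠ ⊥ := S.ne_bot_of_dvd_card (by
    by_contra hev
    haveI := Cfsg.Agent.S0205.result
      (Nat.not_even_iff_odd.mp fun h => hev (even_iff_two_dvd.mp h))
    exact hna ⟨⟨IsSimpleGroup.comm_iff_isSolvable.mpr inferInstance⟩⟩)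
  obtain ⟨A, hA, hAc, hsc⟩ := exists_closed h S hne
  rcases hG G S A hA hAc hsc with hS | ⟨H, hH⟩
  · have hab := AbelianSolvCent.abSylow_of_one S hS
    rcases hW G hna hab with ⟨n, hn, F, iF, iT, hF, ⟨e⟩⟩ | ⟨F, iF, iT, h5, hq, ⟨e⟩⟩ | hJ |
      ⟨F, iF, iT, -, ⟨c⟩⟩
    · exact Or.inl (psl_case hn hF e)
    · exact Or.inl ⟨F, iF, iT, by omega, Or.inr hq, ⟨e⟩⟩
    · exact Or.inr (Or.inr (Or.inr hJ))
    · exact Or.inr (Or.inr (Or.inl (Walter.isRee_of_ctx hab c)))
  · have hab : ∃ a b : G, a * b ≠ b * a := by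
      by_contra hc
      push Not at hc
      exact hna ⟨⟨hc⟩⟩
    rcases Cfsg.Agent.S0222.result hab H hH with
      ⟨F, iF, iT, hch, h4, ⟨e⟩⟩ | hSz | ⟨F, iF, iT, q, hF, hq, -, ⟨e⟩⟩
    · obtain ⟨k, -, hk⟩ := FiniteField.card F 2
      have hk2 : 2 ≤ (k : ℕ) := by
        by_contra hlt
        have : (2 : ℕ) ^ (k : ℕ) ≤ 2 ^ 1 := Nat.pow_le_pow_right (by norm_num) (by omega)
        omega
      exact Or.inl (psl_case hk2 hk e)
    · exact Or.inr (Or.inl hSz)
    · exact absurd (irr_congr e h) (not_irr_psu hF hq)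

end CfsgLib.TwoIrrational
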